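import Mathlib

/-!
# Uniform degree bounds: degrees, stratification, universal tuples

* `Bd D I`: the ideal has generators of total degree `≤ D`;
* `exists_bound`: a bound for every point follows from a bound near every prime of a Noetherian ring;
* `exists_tuple`: subsets of the range of a linear map from `ι → k` are replaced by `ι`-tuples.
-/

set_option autoImplicit false

universe u

open MvPolynomial

namespace Groth.Agent.RadBound

variable {N : ℕ}

/-- The ideal has generators of total degree at most `D`. -/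
def Bd (D : ℕ) {k : Type u} [CommRing k] (I : Ideal (MvPolynomial (Fin N) k)) : Prop :=
  ∃ S' : Set (MvPolynomial (Fin N) k), (∀ q ∈ S', q.totalDegree ≤ D) ∧ Ideal.span S' = I

lemma Bd.mono {D D' : ℕ} (h : D ≤ D') {k : Type u} [CommRing k] {I : Ideal (MvPolynomial (Fin N) k)}
    (hI : Bd D I) : Bd D' I := by
  obtain ⟨S', hS, rfl⟩ := hI
  exact ⟨S', fun q hq => (hS q hq).trans h, rfl⟩

lemma totalDegree_map_le {A B : Type u} [CommRing A] [CommRing B] (φ : A →+* B)
    (p : MvPolynomial (Fin N) A) : (map φ p).totalDegree ≤ p.totalDegree :=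
  Finset.sup_mono (support_map_subset φ p)

/-- Images of a finitely generated ideal have uniformly bounded generators. -/
lemma exists_bd_map {A : Type u} [CommRing A] {L : Ideal (MvPolynomial (Fin N) A)} (hL : L.FG) :
    ∃ D, ∀ (k : Type u) [CommRing k] (φ : A →+* k), Bd D (L.map (map φ)) := by
  classical
  obtain ⟨T, rfl⟩ := hL
  refine ⟨T.sup totalDegree, fun k _ φ => ⟨map φ '' T, ?_, (Ideal.map_span _ _).symm⟩⟩
  rintro _ ⟨p, hp, rfl⟩
  exact (totalDegree_map_le φ p).trans (Finset.le_sup hp)

/-- Stratification: a bound near each prime gives a global bound. -/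
theorem exists_bound {A : Type u} [CommRing A] [IsNoetherianRing A]
    (Q : ℕ → ∀ (k : Type u) [Field k], (A →+* k) → Prop)
    (hmono : ∀ D D', D ≤ D' → ∀ (k : Type u) [Field k] (φ : A →+* k), Q D k φ → Q D' k φ)
    (h : ∀ P : Ideal A, P.IsPrime → ∃ f ∉ P, ∃ D, ∀ (k : Type u) [Field k] (φ : A →+* k),
      P ≤ RingHom.ker φ → φ f ≠ 0 → Q D k φ) :
    ∃ D, ∀ (k : Type u) [Field k] (φ : A →+* k), Q D k φ := by
  suffices hI : ∀ I : Ideal A, ∃ D, ∀ (k : Type u) [Field k] (φ : A →+* k), I ≤ RingHom.ker φ → Q D k φ by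
    obtain ⟨D, hD⟩ := hI ⊥
    exact ⟨D, fun k _ φ => hD k φ bot_le⟩
  intro I
  induction I using IsNoetherian.induction with
  | hgt I ih =>
    by_cases htop : I = ⊤
    · exact ⟨0, fun k _ φ hφ => absurd (top_le_iff.mp (htop ▸ hφ)) (RingHom.ker_isPrime φ).ne_top⟩
    by_cases hP : Ideal.IsPrime I
    · obtain ⟨f, hf, D₁, hD₁⟩ := h I hP
      obtain ⟨D₂, hD₂⟩ := ih (I ⊔ Ideal.span {f})
        (lt_of_le_not_ge le_sup_left fun hle => hf (hle (Ideal.mem_sup_right (Ideal.mem_span_singleton_self f))))
      refine ⟨max D₁ D₂, fun k _ φ hφ => ?_⟩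
      by_cases hfφ : φ f = 0
      · exact hmono _ _ (le_max_right _ _) k φ
          (hD₂ k φ (sup_le hφ ((Ideal.span_singleton_le_iff_mem _).mpr hfφ)))
      · exact hmono _ _ (le_max_left _ _) k φ (hD₁ k φ hφ hfφ)
    · obtain ⟨a, ha, b, hb, hab⟩ := ((Ideal.not_isPrime_iff).mp hP).resolve_left htop
      obtain ⟨D₁, hD₁⟩ := ih (I ⊔ Ideal.span {a})
        (lt_of_le_not_ge le_sup_left fun hle => ha (hle (Ideal.mem_sup_right (Ideal.mem_span_singleton_self a))))
      obtain ⟨D₂, hD₂⟩ := ih (I ⊔ Ideal.span {b})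
        (lt_of_le_not_ge le_sup_left fun hle => hb (hle (Ideal.mem_sup_right (Ideal.mem_span_singleton_self b))))
      refine ⟨max D₁ D₂, fun k _ φ hφ => ?_⟩
      have h0 : φ a * φ b = 0 := by rw [← map_mul]; exact RingHom.mem_ker.mp (hφ hab)
      rcases mul_eq_zero.mp h0 with ha0 | hb0
      · exact hmono _ _ (le_max_left _ _) k φ
          (hD₁ k φ (sup_le hφ ((Ideal.span_singleton_le_iff_mem _).mpr ha0)))
      · exact hmono _ _ (le_max_right _ _) k φ
          (hD₂ k φ (sup_le hφ ((Ideal.span_singleton_le_iff_mem _).mpr hb0)))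

/-- Replacing a subset of the range of a linear map by a tuple. -/
theorem exists_tuple {k R M : Type*} [Field k] [CommRing R] [Algebra k R] [AddCommGroup M] [Module R M]
    [Module k M] [IsScalarTower k R M] {ι : Type*} [Fintype ι] (Φ : (ι → k) →ₗ[k] M) (V : Set M)
    (hV : V ⊆ Set.range Φ) :
    ∃ c : ι → ι → k, Submodule.span R V = Submodule.span R (Set.range fun i => Φ (c i)) := by
  classical
  let W := (Submodule.span k V).comap Φ
  obtain ⟨π, hπ⟩ := LinearMap.exists_leftInverse_of_injective W.subtype W.ker_subtype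
  refine ⟨fun i => (π (Pi.single i 1)).1, le_antisymm ?_ ?_⟩
  · rw [Submodule.span_le]
    intro v hv
    obtain ⟨w, rfl⟩ := hV hv
    have hw : w ∈ W := Submodule.subset_span hv
    have h1 : (π w).1 = w := congrArg Subtype.val (LinearMap.congr_fun hπ ⟨w, hw⟩)
    rw [← h1, pi_eq_sum_univ' w]
    simp only [map_sum, map_smul, Submodule.coe_sum, Submodule.coe_smul]
    refine Submodule.sum_mem _ fun i _ => ?_
    rw [← algebraMap_smul R]
    exact Submodule.smul_mem _ _ (Submodule.subset_span ⟨i, rfl⟩)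
  · rw [Submodule.span_le]
    rintro _ ⟨i, rfl⟩
    have h2 : Φ (π (Pi.single i 1)).1 ∈ Submodule.span k V := (π (Pi.single i 1)).2
    exact Submodule.span_le_restrictScalars k R V h2

/-- Exponents with all entries at most `m`. -/
abbrev Box (N m : ℕ) : Type := Fin N → Fin (m + 1)

/-- The exponent of a point of the box. -/
noncomputable def expn {m : ℕ} (α : Box N m) : Fin N →₀ ℕ :=
  Finsupp.equivFunOnFinite.symm fun i => (α i : ℕ)

lemma expn_injective {m : ℕ} : Function.Injective (expn (N := N) (m := m)) := fun a b h => by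
  funext i
  exact Fin.ext (congrArg (fun t => t i) h)

/-- A polynomial of degree at most `m` is supported in the box. -/
lemma eq_sum_box {m : ℕ} {k : Type u} [CommRing k] (p : MvPolynomial (Fin N) k) (hp : p.totalDegree ≤ m) :
    p = ∑ α : Box N m, monomial (expn α) (coeff (expn α) p) := by
  classical
  ext β
  rw [coeff_sum]
  simp only [coeff_monomial]
  by_cases h : ∃ α : Box N m, expn α = β
  · obtain ⟨α, rfl⟩ := h
    rw [Finset.sum_eq_single α (fun b _ hb => if_neg (fun e => hb (expn_injective e)))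
      (fun h => absurd (Finset.mem_univ α) h), if_pos rfl]
  · rw [Finset.sum_eq_zero fun b _ => if_neg (fun e => h ⟨b, e⟩), ← notMem_support_iff]
    intro hβ
    refine h ⟨fun i => ⟨β i, Nat.lt_succ_of_le ?_⟩, Finsupp.ext fun i => rfl⟩
    refine le_trans ?_ ((le_totalDegree hβ).trans hp)
    by_cases hi : i ∈ β.support
    · exact Finset.single_le_sum (fun j _ => Nat.zero_le (β j)) hi
    · simp [Finsupp.notMem_support_iff.mp hi]

/-- The polynomial vector with given coefficients in the box. -/
noncomputable def vecOf (s : ℕ) (m : ℕ) {k : Type u} [CommRing k] :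
    (Fin s × Box N m → k) →ₗ[k] (Fin s → MvPolynomial (Fin N) k) :=
  LinearMap.pi fun l => ∑ α : Box N m, (monomial (expn α)).comp (LinearMap.proj (l, α))

lemma vecOf_apply (s m : ℕ) {k : Type u} [CommRing k] (c : Fin s × Box N m → k) (l : Fin s) :
    vecOf s m c l = ∑ α : Box N m, monomial (expn α) (c (l, α)) := by
  simp [vecOf]

lemma map_vecOf (s m : ℕ) {A k : Type u} [CommRing A] [CommRing k] (φ : A →+* k)
    (c : Fin s × Box N m → A) (l : Fin s) :
    map φ (vecOf s m c l) = vecOf s m (fun i => φ (c i)) l := by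
  simp [vecOf_apply, map_sum, map_monomial]

lemma mem_range_vecOf (s m : ℕ) {k : Type u} [CommRing k] (v : Fin s → MvPolynomial (Fin N) k)
    (hv : ∀ l, (v l).totalDegree ≤ m) : v ∈ Set.range (vecOf (N := N) (k := k) s m) :=
  ⟨fun i => coeff (expn i.2) (v i.1), funext fun l => by rw [vecOf_apply]; exact (eq_sum_box _ (hv l)).symm⟩

/-- The universal coefficient ring. -/
abbrev Univ (ι : Type) : Type u := MvPolynomial (ι × ι) (ULift.{u} ℤ)

instance : IsNoetherianRing (ULift.{u} ℤ) :=
  isNoetherianRing_of_ringEquiv ℤ (ULift.ringEquiv : ULift.{u} ℤ ≃+* ℤ).symm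

/-- The point of the universal ring with given coefficients. -/
noncomputable def point {ι : Type} {k : Type u} [CommRing k] (c : ι → ι → k) : Univ.{u} ι →+* k :=
  eval₂Hom ((Int.castRingHom k).comp (ULift.ringEquiv : ULift.{u} ℤ ≃+* ℤ).toRingHom) fun x => c x.1 x.2

lemma point_X {ι : Type} {k : Type u} [CommRing k] (c : ι → ι → k) (i j : ι) :
    point c (X (i, j)) = c i j := eval₂Hom_X' _ _ _

end Groth.Agent.RadBound
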