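import Groth.Agent.RadBound.Basic
import Groth.Agent.FlatOpen.GenFree
import Mathlib

/-!
# Uniform degree bound for `{h | h • e₀ ∈ Z}`
-/

set_option autoImplicit false

universe u

open MvPolynomial TensorProduct

namespace Groth.Agent.RadBound

variable {N : ℕ}

/-- Injectivity after base change to a field where a freeness denominator of the cokernel is invertible. -/
theorem injective_baseChange_of_free_away {A : Type u} [CommRing A] (f : A) {k : Type u} [Field k]
    [Algebra A k] (hf : algebraMap A k f ≠ 0) {X Y C : Type u} [AddCommGroup X] [Module A X]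
    [AddCommGroup Y] [Module A Y] [AddCommGroup C] [Module A C] (g : X →ₗ[A] Y)
    (hg : Function.Injective g) (q : Y →ₗ[A] C) (hq : Function.Surjective q) (hgq : Function.Exact g q)
    (hC : Module.Free (Localization.Away f) (Localization.Away f ⊗[A] C)) :
    Function.Injective (g.baseChange k) := by
  let Af := Localization.Away f
  let _ : Algebra Af k := (IsLocalization.Away.lift (S := Af) f (g := algebraMap A k)
    (isUnit_iff_ne_zero.mpr hf)).toAlgebra
  have : IsScalarTower A Af k :=
    .of_algebraMap_eq fun a => (IsLocalization.Away.lift_eq f (isUnit_iff_ne_zero.mpr hf) a).symm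
  have h1 : Function.Injective (g.baseChange Af) :=
    Module.Flat.lTensor_preserves_injective_linearMap g hg
  have h2 : Function.Exact (g.baseChange Af) (q.baseChange Af) := lTensor_exact Af hgq hq
  have h3 := LinearMap.lTensor_injective_of_exact_of_flat (q.baseChange Af)
    (LinearMap.lTensor_surjective Af hq) (g.baseChange Af) h1 h2 k
  let eX := AlgebraTensorModule.cancelBaseChange A Af k k X
  let eY := AlgebraTensorModule.cancelBaseChange A Af k k Y
  have hnat : ∀ t : k ⊗[Af] (Af ⊗[A] X), g.baseChange k (eX t) = eY ((g.baseChange Af).lTensor k t) := by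
    intro t
    induction t with
    | zero => simp
    | add a b ha hb => simp only [map_add, ha, hb]
    | tmul c w =>
      induction w with
      | zero => simp
      | add a b ha hb => simp only [tmul_add, map_add, ha, hb]
      | tmul a x => simp [eX, eY]
  intro a b hab
  obtain ⟨a, rfl⟩ := eX.surjective a
  obtain ⟨b, rfl⟩ := eX.surjective b
  rw [hnat, hnat] at hab
  rw [h3 (eY.injective hab)]

/-- `{h | h • e₀ ∈ Z}`. -/
def colonOne {R : Type u} [CommRing R] {s : ℕ} (Z : Submodule R (Fin (s + 1) → R)) : Ideal R :=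
  Z.comap (LinearMap.single R (fun _ : Fin (s + 1) => R) 0)

lemma mem_colonOne {R : Type u} [CommRing R] {s : ℕ} {Z : Submodule R (Fin (s + 1) → R)} {h : R} :
    h ∈ colonOne Z ↔ Pi.single 0 h ∈ Z := Iff.rfl

/-- The image of a submodule of vectors under a change of coefficients. -/
noncomputable def mapVecs {A k : Type u} [CommRing A] [CommRing k] (φ : A →+* k) {ι : Type}
    (Z : Submodule (MvPolynomial (Fin N) A) (ι → MvPolynomial (Fin N) A)) :
    Submodule (MvPolynomial (Fin N) k) (ι → MvPolynomial (Fin N) k) :=
  Submodule.span _ ((fun v l => map φ (v l)) '' (Z : Set (ι → MvPolynomial (Fin N) A)))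

/-- The colon ideal commutes with base change on a nonempty open of a domain. -/
theorem exists_colon_stage {A : Type u} [CommRing A] [IsDomain A] [IsNoetherianRing A] {s : ℕ}
    (Z : Submodule (MvPolynomial (Fin N) A) (Fin (s + 1) → MvPolynomial (Fin N) A)) :
    ∃ f : A, f ≠ 0 ∧ ∃ D, ∀ (k : Type u) [Field k] (φ : A →+* k), φ f ≠ 0 →
      Bd D (colonOne (mapVecs φ Z)) := by
  classical
  let P := MvPolynomial (Fin N) A
  obtain ⟨D, hD⟩ := exists_bd_map ((colonOne Z).fg_of_isNoetherianRing)
  let θ : P →ₗ[P] (Fin (s + 1) → P) ⧸ Z := Z.mkQ ∘ₗ LinearMap.single P (fun _ => P) 0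
  obtain ⟨f, hf, hfree⟩ := FlatOpen.isGenFree_of_finiteType A P
    (((Fin (s + 1) → P) ⧸ Z) ⧸ LinearMap.range θ)
  refine ⟨f, hf, D, fun k _ φ hφ => ?_⟩
  let _ : Algebra A k := φ.toAlgebra
  let Pk := MvPolynomial (Fin N) k
  let j : Pk →ₐ[k] k ⊗[A] P := aeval fun i => (1 : k) ⊗ₜ[A] (X i : P)
  have hj : ∀ p : P, j (map φ p) = (1 : k) ⊗ₜ[A] p := fun p => by
    induction p using MvPolynomial.induction_on with
    | C a =>
      rw [map_C, ← MvPolynomial.algebraMap_eq, AlgHom.commutes,
        show (C a : P) = algebraMap A P a from rfl, Algebra.algebraMap_eq_smul_one (A := P), tmul_smul,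
        Algebra.TensorProduct.algebraMap_apply, Algebra.algebraMap_self, RingHom.id_apply, smul_tmul',
        Algebra.smul_def, mul_one]
      rfl
    | add p q hp hq => rw [map_add, map_add, hp, hq, tmul_add]
    | mul_X p i hp =>
      rw [map_mul, map_X, map_mul, hp, aeval_X, Algebra.TensorProduct.tmul_mul_tmul, mul_one]
  let e : k ⊗[A] P →ₐ[k] Pk := Algebra.TensorProduct.lift (Algebra.ofId k Pk)
    (mapAlgHom (Algebra.ofId A k)) fun _ _ => .all _ _
  have he : ∀ p : P, e ((1 : k) ⊗ₜ[A] p) = map φ p := fun p => by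
    show (1 : Pk) * map φ p = map φ p
    rw [one_mul]
  have hej : ∀ h : Pk, e (j h) = h := fun h => by
    have : e.comp j = AlgHom.id k Pk := MvPolynomial.algHom_ext fun i => by
      show e (j (X i)) = X i
      rw [aeval_X, he, map_X]
    exact AlgHom.congr_fun this h
  let sgl : Fin (s + 1) → P →ₗ[A] (Fin (s + 1) → P) := fun l => LinearMap.single A (fun _ => P) l
  let Γ : (Fin (s + 1) → Pk) →ₗ[k] k ⊗[A] (Fin (s + 1) → P) :=
    ∑ l, (sgl l).baseChange k ∘ₗ j.toLinearMap ∘ₗ LinearMap.proj l
  have hΓ : ∀ v : Fin (s + 1) → P, Γ (fun l => map φ (v l)) = (1 : k) ⊗ₜ[A] v := fun v => by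
    simp only [Γ, LinearMap.sum_apply, LinearMap.comp_apply, LinearMap.proj_apply, AlgHom.toLinearMap_apply,
      hj, LinearMap.baseChange_tmul, ← tmul_sum, sgl, LinearMap.coe_single]
    rw [Finset.univ_sum_single v]
  let q : (Fin (s + 1) → P) →ₗ[A] (Fin (s + 1) → P) ⧸ Z := Z.mkQ.restrictScalars A
  let θA : P →ₗ[A] (Fin (s + 1) → P) ⧸ Z := θ.restrictScalars A
  -- `Z` dies in `k ⊗ M`
  have hZ : ∀ v ∈ mapVecs φ Z, q.baseChange k (Γ v) = 0 := by
    intro v hv
    have hspan : ∀ w ∈ mapVecs φ Z,
        w ∈ Submodule.span k ((fun v l => map φ (v l)) '' (Z : Set (Fin (s + 1) → P))) := by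
      intro w hw
      induction hw using Submodule.span_induction with
      | mem y hy => exact Submodule.subset_span hy
      | zero => exact zero_mem _
      | add a b _ _ ha hb => exact add_mem ha hb
      | smul r a hm ha =>
        clear hm
        induction ha using Submodule.span_induction with
        | mem y hy =>
          obtain ⟨z, hz, rfl⟩ := hy
          induction r using MvPolynomial.induction_on' with
          | monomial α c =>
            have h1 : (monomial α c : Pk) • (fun l => map φ (z l)) =
                c • (fun l => map φ ((monomial α (1 : A) • z) l)) := by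
              funext l
              simp [Pi.smul_apply, smul_eq_mul, map_mul, map_monomial, MvPolynomial.smul_eq_C_mul,
                ← mul_assoc, C_mul_monomial]
            rw [h1]
            exact Submodule.smul_mem _ _ (Submodule.subset_span ⟨_, Z.smul_mem _ hz, rfl⟩)
          | add a b ha hb => rw [add_smul]; exact add_mem ha hb
        | zero => rw [smul_zero]; exact zero_mem _
        | add a b _ _ ha hb => rw [smul_add]; exact add_mem ha hb
        | smul c a _ ha => rw [smul_comm]; exact Submodule.smul_mem _ _ ha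
    have h0 := hspan v hv
    clear hv
    induction h0 using Submodule.span_induction with
    | mem y hy =>
      obtain ⟨z, hz, rfl⟩ := hy
      rw [hΓ, LinearMap.baseChange_tmul,
        show q z = 0 from (Submodule.Quotient.mk_eq_zero Z).mpr hz, tmul_zero]
    | zero => simp
    | add a b _ _ ha hb => rw [map_add, map_add, ha, hb, add_zero]
    | smul c a _ ha => rw [map_smul, map_smul, ha, smul_zero]
  suffices h : colonOne (mapVecs φ Z) = (colonOne Z).map (map φ) by
    rw [h]
    exact hD k φ
  refine le_antisymm (fun h hh => ?_) (Ideal.map_le_iff_le_comap.mpr fun p hp => ?_)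
  swap
  · rw [Ideal.mem_comap, mem_colonOne]
    refine Submodule.subset_span ⟨Pi.single 0 p, hp, funext fun l => ?_⟩
    rcases eq_or_ne l 0 with rfl | hl
    · simp
    · simp [Pi.single_eq_of_ne hl]
  have h1 : θA.baseChange k (j h) = 0 := by
    have h2 : Γ (Pi.single 0 h) = (sgl 0).baseChange k (j h) := by
      simp only [Γ, LinearMap.sum_apply, LinearMap.comp_apply, LinearMap.proj_apply, AlgHom.toLinearMap_apply]
      rw [Finset.sum_eq_single (0 : Fin (s + 1)) (fun b _ hb => by simp [Pi.single_eq_of_ne hb]) (by simp),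
        Pi.single_eq_same]
    have h3 := hZ _ (mem_colonOne.mp hh)
    rw [h2, ← LinearMap.comp_apply, ← LinearMap.baseChange_comp] at h3
    exact h3
  have hinj := injective_baseChange_of_free_away (k := k) f hφ
    ((LinearMap.range θ).subtype.restrictScalars A) Subtype.val_injective
    ((LinearMap.range θ).mkQ.restrictScalars A) (LinearMap.range θ).mkQ_surjective
    (LinearMap.exact_subtype_mkQ (LinearMap.range θ)) hfree
  let θ' : P →ₗ[A] LinearMap.range θ := θ.rangeRestrict.restrictScalars A
  have h4 : θ'.baseChange k (j h) = 0 := hinj (by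
    rw [map_zero, ← LinearMap.comp_apply, ← LinearMap.baseChange_comp]
    exact h1)
  have hex : Function.Exact ((colonOne Z).subtype.restrictScalars A) θ' := fun p => by
    show θ.rangeRestrict p = 0 ↔ _
    rw [Subtype.ext_iff]
    show Z.mkQ (Pi.single 0 p) = 0 ↔ _
    rw [Submodule.mkQ_apply, Submodule.Quotient.mk_eq_zero, ← mem_colonOne]
    exact ⟨fun hp => ⟨⟨p, hp⟩, rfl⟩, fun ⟨z, hz⟩ => hz ▸ z.2⟩
  obtain ⟨w, hw⟩ := (lTensor_exact k hex θ.surjective_rangeRestrict _).mp h4
  rw [← hej h, ← hw]
  clear hw
  induction w with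
  | zero => simp
  | add a b ha hb => rw [map_add, map_add]; exact add_mem ha hb
  | tmul c z =>
    rw [LinearMap.lTensor_tmul, show c ⊗ₜ[A] ((colonOne Z).subtype.restrictScalars A z) =
      c • ((1 : k) ⊗ₜ[A] (z : P)) from by rw [smul_tmul', smul_eq_mul, mul_one]; rfl, map_smul, he,
      Algebra.smul_def]
    exact Ideal.mul_mem_left _ _ (Ideal.mem_map_of_mem _ z.2)

end Groth.Agent.RadBound
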