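import Groth.Agent.RadBound.Stage
import Mathlib

/-!
# Uniform degree bound for radicals
-/

set_option autoImplicit false

universe u

open MvPolynomial TensorProduct

namespace Groth.Agent.RadBound

variable {N : ℕ}

lemma mapVecs_span {A k : Type u} [CommRing A] [CommRing k] (φ : A →+* k) {ι : Type}
    (S : Set (ι → MvPolynomial (Fin N) A)) :
    mapVecs φ (Submodule.span (MvPolynomial (Fin N) A) S) =
      Submodule.span _ ((fun v l => map φ (v l)) '' S) := by
  refine le_antisymm (Submodule.span_le.mpr ?_) (Submodule.span_mono (Set.image_mono Submodule.subset_span))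
  rintro _ ⟨v, hv, rfl⟩
  induction hv using Submodule.span_induction with
  | mem y hy => exact Submodule.subset_span ⟨y, hy, rfl⟩
  | zero => simp only [Pi.zero_apply, map_zero]; exact zero_mem _
  | add a b _ _ ha hb => simp only [Pi.add_apply, map_add]; exact add_mem ha hb
  | smul r a _ ha =>
    simp only [Pi.smul_apply, smul_eq_mul, map_mul]
    exact Submodule.smul_mem _ (map φ r) ha

/-- `{h | h • e₀ ∈ span V}` has bounded generators, uniformly. -/
theorem exists_colon_bound (N s m : ℕ) :
    ∃ D, ∀ (k : Type u) [Field k] (V : Set (Fin (s + 1) → MvPolynomial (Fin N) k)),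
      (∀ v ∈ V, ∀ l, (v l).totalDegree ≤ m) → Bd D (colonOne (Submodule.span (MvPolynomial (Fin N) k) V)) := by
  classical
  let ι := Fin (s + 1) × Box N m
  let A := Univ.{u} ι
  let gen : ι → Fin (s + 1) → MvPolynomial (Fin N) A := fun i => vecOf (s + 1) m fun j => X (i, j)
  obtain ⟨D, hD⟩ := exists_bound (A := A)
    (fun D k _ φ => Bd D (colonOne (Submodule.span (MvPolynomial (Fin N) k)
      (Set.range fun i l => map φ (gen i l)))))
    (fun D D' h k _ φ hB => Bd.mono h hB) (fun P hP => by
      let g' : ι → Fin (s + 1) → MvPolynomial (Fin N) (A ⧸ P) := fun i l => map (Ideal.Quotient.mk P) (gen i l)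
      obtain ⟨f, hf, D, hD⟩ := exists_colon_stage (Submodule.span (MvPolynomial (Fin N) (A ⧸ P)) (Set.range g'))
      obtain ⟨f, rfl⟩ := Ideal.Quotient.mk_surjective f
      refine ⟨f, fun h => hf (Ideal.Quotient.eq_zero_iff_mem.mpr h), D, fun k _ φ hPφ hφ => ?_⟩
      let φ' : A ⧸ P →+* k := Ideal.Quotient.lift P φ fun a ha => RingHom.mem_ker.mp (hPφ ha)
      have h := hD k φ' (by rwa [Ideal.Quotient.lift_mk])
      rw [mapVecs_span, ← Set.range_comp] at h
      have hφ' : φ'.comp (Ideal.Quotient.mk P) = φ := Ideal.Quotient.lift_comp_mk _ _ _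
      simp only [g', Function.comp_def, MvPolynomial.map_map, hφ'] at h
      exact h)
  refine ⟨D, fun k _ V hV => ?_⟩
  obtain ⟨c, hc⟩ := exists_tuple (R := MvPolynomial (Fin N) k) (vecOf (N := N) (s + 1) m) V
    fun v hv => mem_range_vecOf _ _ v (hV v hv)
  have h := hD k (point c)
  rw [show (fun i l => map (point c) (gen i l)) = fun i => vecOf (s + 1) m (c i) from funext fun i => funext fun l => by
    simp only [gen, map_vecOf, point_X]] at h
  rw [hc]
  exact h

/-- Geometric reducedness of the generic fibre spreads out to a nonempty open. -/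
theorem exists_reduced_spread {A' B : Type u} [CommRing A'] [IsDomain A'] [IsNoetherianRing A']
    [CommRing B] [Algebra A' B] [Algebra.FiniteType A' B]
    {Ω : Type u} [Field Ω] [IsAlgClosed Ω] [Algebra A' Ω] [FaithfulSMul A' Ω]
    (hB : _root_.IsReduced (Ω ⊗[A'] B)) :
    ∃ a : A', a ≠ 0 ∧ ∀ (L : Type u) [Field L] [Algebra A' L], algebraMap A' L a ≠ 0 →
      _root_.IsReduced (L ⊗[A'] B) := by
  obtain ⟨f₁, hf₁, hfree⟩ := FlatOpen.isGenFree_of_finiteType A' B B
  have : Algebra.FinitePresentation A' B := Algebra.FinitePresentation.of_finiteType.mp inferInstance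
  let A'' := Localization.Away f₁
  have : IsDomain A'' := IsLocalization.isDomain_localization (powers_le_nonZeroDivisors_of_noZeroDivisors hf₁)
  have : Module.Flat A'' (A'' ⊗[A'] B) := by
    have := hfree
    infer_instance
  have hv : Function.Injective (algebraMap A' Ω) := FaithfulSMul.algebraMap_injective A' Ω
  have hvf : IsUnit (algebraMap A' Ω f₁) := isUnit_iff_ne_zero.mpr ((map_ne_zero_iff _ hv).mpr hf₁)
  let w : A'' →+* Ω := IsLocalization.Away.lift (S := A'') f₁ (g := algebraMap A' Ω) hvf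
  have hwv : ∀ x, w (algebraMap A' A'' x) = algebraMap A' Ω x := fun x => IsLocalization.Away.lift_eq f₁ hvf x
  let _ : Algebra A'' Ω := w.toAlgebra
  have : IsScalarTower A' A'' Ω := .of_algebraMap_eq fun x => (hwv x).symm
  have hw : Function.Injective w := by
    rw [injective_iff_map_eq_zero]
    intro x hx
    obtain ⟨⟨num, den⟩, hnd⟩ := IsLocalization.surj (Submonoid.powers f₁) x
    have h1 : algebraMap A' Ω num = 0 := by rw [← hwv, ← hnd, map_mul, hx, zero_mul]
    have h2 : num = 0 := (map_eq_zero_iff _ hv).mp h1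
    rw [h2, map_zero] at hnd
    exact (IsUnit.mul_left_eq_zero (IsLocalization.map_units A'' den)).mp hnd
  have : FaithfulSMul A'' Ω := (faithfulSMul_iff_algebraMap_injective A'' Ω).mpr hw
  let _ : Algebra (FractionRing A'') Ω := FractionRing.liftAlgebra A'' Ω
  let σ : AlgebraicClosure (FractionRing A'') →ₐ[A''] Ω :=
    (IsAlgClosed.lift (R := FractionRing A'') (S := AlgebraicClosure (FractionRing A'')) (M := Ω)).restrictScalars A''
  have hredΩ : _root_.IsReduced (AlgebraicClosure (FractionRing A'') ⊗[A''] (A'' ⊗[A'] B)) := by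
    have : _root_.IsReduced (Ω ⊗[A''] (A'' ⊗[A'] B)) :=
      isReduced_of_injective _ (Algebra.TensorProduct.cancelBaseChange A' A'' Ω Ω B).injective
    exact isReduced_of_injective (Algebra.TensorProduct.map σ (AlgHom.id A'' _))
      (Module.Flat.rTensor_preserves_injective_linearMap σ.toLinearMap σ.toRingHom.injective)
  obtain ⟨a, ha, hfib⟩ := FlatMisc.GeomRedSpread.exists_reduced_fibres hredΩ
  obtain ⟨⟨num, den⟩, hnd⟩ := IsLocalization.surj (Submonoid.powers f₁) a
  have hnum : num ≠ 0 := fun h => ha (by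
    rw [h, map_zero] at hnd
    exact (IsUnit.mul_left_eq_zero (IsLocalization.map_units A'' den)).mp hnd)
  refine ⟨f₁ * num, mul_ne_zero hf₁ hnum, fun L _ _ hψ => ?_⟩
  have hψt : algebraMap A' L f₁ ≠ 0 ∧ algebraMap A' L num ≠ 0 := by rwa [map_mul, mul_ne_zero_iff] at hψ
  let w' : A'' →+* L := IsLocalization.Away.lift (S := A'') f₁ (g := algebraMap A' L) (isUnit_iff_ne_zero.mpr hψt.1)
  have hwψ : ∀ x, w' (algebraMap A' A'' x) = algebraMap A' L x := fun x =>
    IsLocalization.Away.lift_eq f₁ (isUnit_iff_ne_zero.mpr hψt.1) x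
  let _ : Algebra A'' L := w'.toAlgebra
  have : IsScalarTower A' A'' L := .of_algebraMap_eq fun x => (hwψ x).symm
  have hred := hfib L (fun h => hψt.2 (by
    rw [← hwψ, ← hnd, map_mul, show w' a = 0 from h, zero_mul]))
  exact isReduced_of_injective _ (Algebra.TensorProduct.cancelBaseChange A' A'' L L B).symm.injective

/-- Radicality of an extended ideal spreads out to a nonempty open of the parameter domain. -/
theorem exists_radical_fibres {A' : Type u} [CommRing A'] [IsDomain A'] [IsNoetherianRing A']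
    {Ω : Type u} [Field Ω] [IsAlgClosed Ω] (v : A' →+* Ω) (hv : Function.Injective v)
    (J : Ideal (MvPolynomial (Fin N) A')) (hJ : (J.map (MvPolynomial.map v)).IsRadical) :
    ∃ a : A', a ≠ 0 ∧ ∀ (L : Type u) [Field L] (ψ : A' →+* L), ψ a ≠ 0 →
      (J.map (MvPolynomial.map ψ)).IsRadical := by
  let _ : Algebra A' Ω := v.toAlgebra
  have : FaithfulSMul A' Ω := (faithfulSMul_iff_algebraMap_injective A' Ω).mpr hv
  obtain ⟨eΩ⟩ := nonempty_tensorQuot_equiv (L := Ω) J
  have : _root_.IsReduced (MvPolynomial (Fin N) Ω ⧸ J.map (MvPolynomial.map (algebraMap A' Ω))) :=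
    (Ideal.isRadical_iff_quotient_reduced _).mp hJ
  have hB : _root_.IsReduced (Ω ⊗[A'] (MvPolynomial (Fin N) A' ⧸ J)) := isReduced_of_injective eΩ eΩ.injective
  obtain ⟨a, ha, hspread⟩ := exists_reduced_spread hB
  refine ⟨a, ha, fun L _ ψ hψ => ?_⟩
  let _ : Algebra A' L := ψ.toAlgebra
  have := hspread L hψ
  obtain ⟨ek⟩ := nonempty_tensorQuot_equiv (L := L) J
  rw [Ideal.isRadical_iff_quotient_reduced]
  exact isReduced_of_injective ek.symm ek.symm.injective

set_option maxHeartbeats 800000 in
/-- The radical is a colon ideal of bounded degree on a nonempty open of a parameter domain. -/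
theorem exists_radical_stage {A : Type u} [CommRing A] [IsDomain A] [IsNoetherianRing A]
    (I₀ : Ideal (MvPolynomial (Fin N) A)) :
    ∃ f : A, f ≠ 0 ∧ ∃ s m : ℕ, ∀ (k : Type u) [Field k] (φ : A →+* k), φ f ≠ 0 →
      ∃ V : Set (Fin (s + 1) → MvPolynomial (Fin N) k), (∀ v ∈ V, ∀ l, (v l).totalDegree ≤ m) ∧
        (I₀.map (map φ)).radical = colonOne (Submodule.span (MvPolynomial (Fin N) k) V) := by
  classical
  let K := FractionRing A
  let Ω := AlgebraicClosure K
  have : Algebra.IsAlgebraic A Ω := (IsFractionRing.comap_isAlgebraic_iff (A := A) (K := K) (C := Ω)).mpr inferInstance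
  have hAΩ : Function.Injective (algebraMap A Ω) := by
    rw [IsScalarTower.algebraMap_eq A K Ω]
    exact (algebraMap K Ω).injective.comp (IsFractionRing.injective A K)
  obtain ⟨T₀, hT₀⟩ := I₀.fg_of_isNoetherianRing
  obtain ⟨T, hT⟩ := (I₀.map (map (algebraMap A Ω))).radical.fg_of_isNoetherianRing
  let g : T → MvPolynomial (Fin N) Ω := fun i => i.1
  let z : T₀ → MvPolynomial (Fin N) A := fun j => j.1
  have hgrad : ∀ i, g i ∈ (I₀.map (map (algebraMap A Ω))).radical := fun i => hT ▸ Ideal.subset_span i.2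
  choose e he using hgrad
  have hIspan : I₀.map (map (algebraMap A Ω)) = Ideal.span (Set.range fun j => map (algebraMap A Ω) (z j)) := by
    rw [← hT₀, show (Ideal.span (T₀ : Set (MvPolynomial (Fin N) A))) = Ideal.span (Set.range z) by simp [z],
      Ideal.map_span, ← Set.range_comp]
    rfl
  have hH : ∀ i, ∃ H : T₀ → MvPolynomial (Fin N) Ω, g i ^ e i = ∑ j, H j * map (algebraMap A Ω) (z j) := fun i => by
    obtain ⟨H, hH⟩ := Ideal.mem_span_range_iff_exists_fun.mp (hIspan ▸ he i)
    exact ⟨H, hH.symm⟩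
  choose H hH using hH
  have hW : ∀ j, ∃ W : T → MvPolynomial (Fin N) Ω, map (algebraMap A Ω) (z j) = ∑ i, W i * g i := fun j => by
    have h1 : map (algebraMap A Ω) (z j) ∈ Ideal.span (Set.range g) := by
      have h2 : Set.range g = (T : Set (MvPolynomial (Fin N) Ω)) := by simp [g]
      rw [h2, show Ideal.span (T : Set (MvPolynomial (Fin N) Ω)) = _ from hT]
      exact Ideal.le_radical (Ideal.mem_map_of_mem _ (hT₀ ▸ Ideal.subset_span j.2))
    obtain ⟨W, hW⟩ := Ideal.mem_span_range_iff_exists_fun.mp h1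
    exact ⟨W, hW.symm⟩
  choose W hW using hW
  let C₀ : Finset Ω := (Finset.univ.biUnion fun i => (g i).support.image fun α => coeff α (g i)) ∪
    (Finset.univ.biUnion fun i => Finset.univ.biUnion fun j => (H i j).support.image fun α => coeff α (H i j)) ∪
    (Finset.univ.biUnion fun j => Finset.univ.biUnion fun i => (W j i).support.image fun α => coeff α (W j i))
  obtain ⟨c, hc, A', hfin, hA'⟩ := exists_subalgebra (A := A) C₀
  let v : A' →+* Ω := (A'.val : A' →+* Ω)
  have hv : Function.Injective v := Subtype.val_injective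
  have hlift : ∀ p : MvPolynomial (Fin N) Ω, (∀ α ∈ p.support, coeff α p ∈ C₀) →
      ∃ p' : MvPolynomial (Fin N) A', map v p' = C (algebraMap A Ω c) * p := fun p hp => by
    have h : C (algebraMap A Ω c) * p ∈ Set.range (map v) := by
      rw [mem_range_map_iff_coeffs_subset]
      intro x hx
      obtain ⟨α, hα, rfl⟩ := mem_coeffs_iff.mp hx
      rw [coeff_C_mul]
      have hα' : α ∈ p.support := by
        rw [mem_support_iff] at hα ⊢
        intro h
        exact hα (by rw [coeff_C_mul, h, mul_zero])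
      exact ⟨⟨_, hA' _ (hp α hα')⟩, by simp [v, Algebra.smul_def]⟩
    exact h
  choose g' hg' using fun i => hlift (g i) fun α hα => by
    simp only [C₀, Finset.mem_union, Finset.mem_biUnion, Finset.mem_image]
    exact Or.inl (Or.inl ⟨i, Finset.mem_univ _, α, hα, rfl⟩)
  choose H' hH' using fun i j => hlift (H i j) fun α hα => by
    simp only [C₀, Finset.mem_union, Finset.mem_biUnion, Finset.mem_image]
    exact Or.inl (Or.inr ⟨i, Finset.mem_univ _, j, Finset.mem_univ _, α, hα, rfl⟩)
  choose W' hW' using fun j i => hlift (W j i) fun α hα => by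
    simp only [C₀, Finset.mem_union, Finset.mem_biUnion, Finset.mem_image]
    exact Or.inr ⟨j, Finset.mem_univ _, i, Finset.mem_univ _, α, hα, rfl⟩
  let c' : A' := algebraMap A A' c
  have hvc : v c' = algebraMap A Ω c := rfl
  have hvA : v.comp (algebraMap A A') = algebraMap A Ω := RingHom.ext fun _ => rfl
  have hvz : ∀ j, map v (map (algebraMap A A') (z j)) = map (algebraMap A Ω) (z j) := fun j => by
    rw [MvPolynomial.map_map, hvA]
  have hrel1 : ∀ i, C c' * g' i ^ e i = C (c' ^ e i) * ∑ j, H' i j * map (algebraMap A A') (z j) := fun i => by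
    refine map_injective v hv ?_
    simp only [map_mul, map_pow, map_sum, map_C, hg', hH', hvz, hvc, mul_pow, hH i, Finset.mul_sum]
    exact Finset.sum_congr rfl fun j _ => by ring
  have hrel2 : ∀ j, C (c' * c') * map (algebraMap A A') (z j) = ∑ i, W' j i * g' i := fun j => by
    refine map_injective v hv ?_
    simp only [map_mul, map_sum, map_C, hg', hW', hvz, hvc]
    rw [hW j, Finset.mul_sum]
    exact Finset.sum_congr rfl fun i _ => by ring
  -- the reduced model
  have : IsNoetherianRing A' := IsNoetherianRing.of_finite A A'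
  let J : Ideal (MvPolynomial (Fin N) A') := Ideal.span (Set.range g')
  have hJΩ : J.map (MvPolynomial.map v) = (I₀.map (MvPolynomial.map (algebraMap A Ω))).radical := by
    refine le_antisymm ?_ ?_
    · rw [Ideal.map_span, Ideal.span_le]
      rintro _ ⟨_, ⟨i, rfl⟩, rfl⟩
      show MvPolynomial.map v (g' i) ∈ _
      rw [hg']
      exact Ideal.mul_mem_left _ _ ⟨e i, he i⟩
    · rw [← hT, Ideal.span_le]
      intro x hx
      have h1 : MvPolynomial.map v (g' ⟨x, hx⟩) ∈ J.map (MvPolynomial.map v) := Ideal.mem_map_of_mem _ (Ideal.subset_span ⟨_, rfl⟩)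
      rw [hg'] at h1
      exact (Ideal.unit_mul_mem_iff_mem _
        ((isUnit_iff_ne_zero.mpr ((map_ne_zero_iff _ hAΩ).mpr hc)).map C)).mp h1
  obtain ⟨a, ha, hfib⟩ := exists_radical_fibres v hv J (hJΩ ▸ Ideal.radical_isRadical _)
  have hc' : c' ≠ 0 := fun h => hc (hAΩ (by rw [← hvc, h, map_zero, map_zero]))
  obtain ⟨f, hf, ⟨u, hu⟩⟩ := (Algebra.IsIntegral.isIntegral (R := A) (a * c')).isAlgebraic.exists_nonzero_dvd
    (mem_nonZeroDivisors_of_ne_zero (mul_ne_zero ha hc'))
  -- spanning family of `A'` and the universal vectors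
  obtain ⟨s, b₀, hb₀⟩ := Module.Finite.exists_fin (R := A) (M := A')
  let b : Fin (s + 1) → A' := Fin.cons 1 b₀
  have hb : Submodule.span A (Set.range b) = ⊤ :=
    top_le_iff.mp (hb₀.ge.trans (Submodule.span_mono fun x ⟨i, hi⟩ => ⟨i.succ, hi ▸ Fin.cons_succ _ _ i⟩))
  choose P hP using fun (i : T) (l : Fin (s + 1)) => exists_vec b hb (C (b l) * g' i)
  refine ⟨f, hf, s, Finset.univ.sup fun il : T × Fin (s + 1) => Finset.univ.sup fun l => (P il.1 il.2 l).totalDegree,
    fun k _ φ hφ => ?_⟩
  let kb := AlgebraicClosure k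
  obtain ⟨ψ, hψ⟩ := exists_extension (A := A) (A' := A') (fun x y h => hAΩ (congrArg v h))
    ((algebraMap k kb).comp φ)
  have hψA : ∀ x, ψ (algebraMap A A' x) = algebraMap k kb (φ x) := RingHom.congr_fun hψ
  have hψt : ψ a ≠ 0 ∧ ψ c' ≠ 0 := by
    have h1 : ψ (algebraMap A A' f) ≠ 0 := by
      rw [hψA]
      exact (map_ne_zero_iff _ (algebraMap k kb).injective).mpr hφ
    rw [hu] at h1
    simp only [map_mul] at h1
    exact ⟨fun h => h1 (by rw [h]; ring), fun h => h1 (by rw [h]; ring)⟩
  have hJrad : (J.map (MvPolynomial.map ψ)).IsRadical := hfib kb ψ hψt.1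
  let Ik := I₀.map (map φ)
  have hIkb : Ik.map (map (algebraMap k kb)) = Ideal.span (Set.range fun j => map ψ (map (algebraMap A A') (z j))) := by
    show (I₀.map (map φ)).map _ = _
    rw [Ideal.map_map, ← hT₀, show Ideal.span (T₀ : Set (MvPolynomial (Fin N) A)) = Ideal.span (Set.range z) by simp [z],
      Ideal.map_span, ← Set.range_comp]
    refine congrArg Ideal.span (congrArg Set.range (funext fun j => ?_))
    show map (algebraMap k kb) (map φ (z j)) = _
    rw [MvPolynomial.map_map, MvPolynomial.map_map, hψ]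
  have hJk : J.map (map ψ) = (Ik.map (map (algebraMap k kb))).radical := by
    refine le_antisymm ?_ (hJrad.radical_le_iff.mpr ?_)
    · rw [Ideal.map_span, Ideal.span_le]
      rintro _ ⟨_, ⟨i, rfl⟩, rfl⟩
      refine ⟨e i, ?_⟩
      have h1 := congrArg (map ψ) (hrel1 i)
      simp only [map_mul, map_pow, map_sum, map_C] at h1
      refine (Ideal.unit_mul_mem_iff_mem _ ((isUnit_iff_ne_zero.mpr hψt.2).map C)).mp ?_
      rw [h1, hIkb]
      exact Ideal.mul_mem_left _ _ (Submodule.sum_mem _ fun j _ => Ideal.mul_mem_left _ _ (Ideal.subset_span ⟨j, rfl⟩))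
    · rw [hIkb, Ideal.span_le]
      rintro _ ⟨j, rfl⟩
      have h1 := congrArg (map ψ) (hrel2 j)
      simp only [map_mul, map_sum, map_C] at h1
      refine (Ideal.unit_mul_mem_iff_mem _ ((isUnit_iff_ne_zero.mpr (mul_ne_zero hψt.2 hψt.2)).map C)).mp ?_
      rw [map_mul C, h1]
      exact Submodule.sum_mem _ fun i _ => Ideal.mul_mem_left _ _ (Ideal.mem_map_of_mem _ (Ideal.subset_span ⟨i, rfl⟩))
  -- the intermediate field
  let K' : Subalgebra k kb := Algebra.adjoin k (Set.range ψ)
  let _ : Field K' := (Subalgebra.isField_of_algebraic (K := k) (L := kb) K').toField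
  let ψ' : A' →+* K' := ψ.codRestrict K'.toSubsemiring fun x => Algebra.subset_adjoin ⟨x, rfl⟩
  let β : Fin (s + 1) → K' := fun l => ψ' (b l)
  have hψ'A : ∀ x, ψ' (algebraMap A A' x) = algebraMap k K' (φ x) := fun x => Subtype.ext (hψA x)
  have hψ'φ : ψ'.comp (algebraMap A A') = (algebraMap k K').comp φ := RingHom.ext hψ'A
  have hβ : Submodule.span k (Set.range β) = ⊤ := by
    apply Submodule.map_injective_of_injective (f := K'.val.toLinearMap) Subtype.val_injective
    rw [Submodule.map_span, ← Set.range_comp, Submodule.map_top]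
    refine le_antisymm (Submodule.span_le.mpr ?_) ?_
    · rintro _ ⟨l, rfl⟩
      exact ⟨β l, rfl⟩
    · rintro _ ⟨x, rfl⟩
      have hx : (x : kb) ∈ Algebra.adjoin k (Set.range ψ) := x.2
      rw [← Subalgebra.mem_toSubmodule, Algebra.adjoin_eq_span] at hx
      refine Submodule.span_le.mpr ?_ hx
      intro y hy
      have hy' : y ∈ MonoidHom.mrange (ψ : A' →* kb) := Submonoid.closure_le.mpr (by rintro _ ⟨a, rfl⟩; exact ⟨a, rfl⟩) hy
      obtain ⟨a, rfl⟩ := hy'
      obtain ⟨r, rfl⟩ := (Submodule.mem_span_range_iff_exists_fun A).mp (hb ▸ (Submodule.mem_top : a ∈ ⊤))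
      show ψ (∑ l, r l • b l) ∈ _
      rw [map_sum]
      refine Submodule.sum_mem _ fun l _ => ?_
      rw [Algebra.smul_def, map_mul, hψA, ← Algebra.smul_def]
      exact Submodule.smul_mem _ _ (Submodule.subset_span ⟨l, rfl⟩)
  have hrad : Ik.radical = (Ideal.span (Set.range fun i => map ψ' (g' i))).comap (map (algebraMap k K')) := by
    have h1 : (Ideal.span (Set.range fun i => map ψ' (g' i))).map (map (K'.val : K' →+* kb)) = J.map (map ψ) := by
      rw [Ideal.map_span, Ideal.map_span, ← Set.range_comp, ← Set.range_comp]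
      refine congrArg Ideal.span (congrArg Set.range (funext fun i => ?_))
      show map (K'.val : K' →+* kb) (map ψ' (g' i)) = map ψ (g' i)
      rw [MvPolynomial.map_map]
      rfl
    conv_lhs => rw [← comap_map_field (algebraMap k kb) Ik, ← Ideal.comap_radical, ← hJk, ← h1]
    conv_rhs => rw [← comap_map_field (K'.val : K' →+* kb) (Ideal.span (Set.range fun i => map ψ' (g' i)))]
    rw [Ideal.comap_comap]
    refine congrArg (fun F : MvPolynomial (Fin N) k →+* MvPolynomial (Fin N) kb => Ideal.comap F _) ?_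
    exact RingHom.ext fun p => by
      show map (algebraMap k kb) p = map (K'.val : K' →+* kb) (map (algebraMap k K') p)
      rw [MvPolynomial.map_map]
      rfl
  let Ev : (Fin (s + 1) → MvPolynomial (Fin N) k) → MvPolynomial (Fin N) K' :=
    fun w => ∑ l, C (β l) * map (algebraMap k K') (w l)
  have hadd : ∀ x y, Ev (x + y) = Ev x + Ev y := fun x y => by simp [Ev, mul_add, Finset.sum_add_distrib]
  have hsmul : ∀ (r : MvPolynomial (Fin N) k) x, Ev (r • x) = map (algebraMap k K') r * Ev x := fun r x => by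
    simp only [Ev, Pi.smul_apply, smul_eq_mul, map_mul, Finset.mul_sum]
    exact Finset.sum_congr rfl fun l _ => by ring
  have hsgl : ∀ h, Ev (Pi.single 0 h) = map (algebraMap k K') h := fun h => by
    show ∑ l, _ = _
    rw [Finset.sum_eq_single (0 : Fin (s + 1)) (fun l _ hl => by simp [Pi.single_eq_of_ne hl]) (by simp), Pi.single_eq_same]
    simp [β, b]
  let P' : T → Fin (s + 1) → Fin (s + 1) → MvPolynomial (Fin N) k := fun i l l' => map φ (P i l l')
  have hP' : ∀ i l, Ev (P' i l) = C (β l) * map ψ' (g' i) := fun i l => by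
    have h1 := congrArg (map ψ') (hP i l)
    simp only [map_mul, map_sum, map_C, MvPolynomial.map_map, hψ'φ] at h1
    simp only [Ev, P', MvPolynomial.map_map]
    exact h1.symm
  refine ⟨Set.range (fun il : T × Fin (s + 1) => P' il.1 il.2) ∪
    {w | ∃ a : Fin (s + 1) → k, ∑ l, a l • β l = 0 ∧ w = fun l => C (a l)}, ?_, ?_⟩
  · rintro v (⟨il, rfl⟩ | ⟨a, -, rfl⟩) l
    · refine (totalDegree_map_le φ _).trans (le_trans ?_ (Finset.le_sup (Finset.mem_univ il)))
      exact Finset.le_sup (f := fun l => (P il.1 il.2 l).totalDegree) (Finset.mem_univ l)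
    · simp
  refine Eq.trans hrad (Ideal.ext fun h => ⟨fun hh => ?_, fun hh => ?_⟩)
  · rw [Ideal.mem_comap] at hh
    obtain ⟨q, hq⟩ := Ideal.mem_span_range_iff_exists_fun.mp hh
    choose u hu using fun i => exists_vec β hβ (q i)
    let y : Fin (s + 1) → MvPolynomial (Fin N) k := ∑ i, ∑ l, u i l • P' i l
    rw [mem_colonOne, show Pi.single 0 h = y + (Pi.single 0 h - y) by abel]
    refine add_mem (Submodule.sum_mem _ fun i _ => Submodule.sum_mem _ fun l _ =>
      Submodule.smul_mem _ _ (Submodule.subset_span (Or.inl ⟨(i, l), rfl⟩))) ?_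
    have hEvsum : ∀ {ι : Type u} (S : Finset ι) (F : ι → Fin (s + 1) → MvPolynomial (Fin N) k),
        Ev (∑ i ∈ S, F i) = ∑ i ∈ S, Ev (F i) := fun S F =>
      map_sum (AddMonoidHom.mk' Ev hadd) F S
    have hy : Ev y = map (algebraMap k K') h := by
      rw [← hq]
      simp only [y, hEvsum]
      refine Finset.sum_congr rfl fun i _ => ?_
      rw [show Ev (∑ l, u i l • P' i l) = ∑ l, Ev (u i l • P' i l) from map_sum (AddMonoidHom.mk' Ev hadd) _ _,
        hu i, Finset.sum_mul]
      exact Finset.sum_congr rfl fun l _ => by rw [hsmul, hP']; ring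
    have hker : Ev (Pi.single 0 h - y) = 0 := by
      rw [show Ev (Pi.single 0 h - y) = Ev (Pi.single 0 h) - Ev y from map_sub (AddMonoidHom.mk' Ev hadd) _ _,
        hsgl, hy, sub_self]
    generalize Pi.single 0 h - y = d at hker
    have hd : d = ∑ α ∈ Finset.univ.biUnion (fun l => (d l).support),
        (monomial α (1 : k)) • fun l => C (coeff α (d l)) := by
      funext l
      simp only [Finset.sum_apply, Pi.smul_apply, smul_eq_mul, mul_comm (monomial _ (1 : k)), C_mul_monomial, mul_one]
      refine (as_sum (d l)).trans (Finset.sum_subset (Finset.subset_biUnion_of_mem (fun l => (d l).support) (Finset.mem_univ l)) ?_)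
      intro α _ hα
      rw [notMem_support_iff.mp hα, map_zero]
    rw [hd]
    refine Submodule.sum_mem _ fun α _ => Submodule.smul_mem _ _ (Submodule.subset_span (Or.inr ⟨_, ?_, rfl⟩))
    have h1 := congrArg (coeff α) hker
    simp only [Ev, coeff_sum, coeff_C_mul, coeff_map, coeff_zero] at h1
    rw [← h1]
    exact Finset.sum_congr rfl fun l _ => by rw [Algebra.smul_def, mul_comm]
  · rw [mem_colonOne] at hh
    rw [Ideal.mem_comap, ← hsgl]
    generalize (Pi.single 0 h : Fin (s + 1) → MvPolynomial (Fin N) k) = d at hh ⊢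
    induction hh using Submodule.span_induction with
    | mem y hy =>
      rcases hy with ⟨il, rfl⟩ | ⟨a, ha, rfl⟩
      · rw [hP']
        exact Ideal.mul_mem_left _ _ (Ideal.subset_span ⟨il.1, rfl⟩)
      · have h1 : Ev (fun l => C (a l)) = C (∑ l, a l • β l) := by
          simp only [Ev, map_C, ← C_mul, map_sum]
          exact Finset.sum_congr rfl fun l _ => by rw [Algebra.smul_def, mul_comm]
        rw [h1, ha, map_zero]
        exact zero_mem _
    | zero => rw [show Ev 0 = 0 from map_zero (AddMonoidHom.mk' Ev hadd)]; exact zero_mem _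
    | add x y _ _ hx hy => rw [hadd]; exact add_mem hx hy
    | smul r x _ hx => rw [hsmul]; exact Ideal.mul_mem_left _ _ hx

/-- The uniform degree bound for radicals. -/
theorem exists_radical_bound (N m : ℕ) :
    ∃ D, ∀ (k : Type u) [Field k] (S : Set (MvPolynomial (Fin N) k)),
      (∀ p ∈ S, p.totalDegree ≤ m) → Bd D (Ideal.span S).radical := by
  classical
  let A := Univ.{u} (Box N m)
  let Φ : ∀ (k : Type u) [CommRing k], (Box N m → k) →ₗ[k] MvPolynomial (Fin N) k :=
    fun k _ => ∑ α, (monomial (expn α)).comp (LinearMap.proj α)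
  let gen : Box N m → MvPolynomial (Fin N) A := fun i => Φ A fun j => X (i, j)
  obtain ⟨D, hD⟩ := exists_bound (A := A)
    (fun D k _ φ => Bd D (Ideal.span (Set.range fun i => map φ (gen i))).radical)
    (fun D D' h k _ φ hB => Bd.mono h hB) (fun P hP => by
      obtain ⟨f, hf, s, m', hV⟩ := exists_radical_stage (N := N)
        (Ideal.span (Set.range fun i => map (Ideal.Quotient.mk P) (gen i)))
      obtain ⟨D, hD⟩ := exists_colon_bound.{u} N s m'
      obtain ⟨f, rfl⟩ := Ideal.Quotient.mk_surjective f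
      refine ⟨f, fun h => hf (Ideal.Quotient.eq_zero_iff_mem.mpr h), D, fun k _ φ hPφ hφ => ?_⟩
      let φ' : A ⧸ P →+* k := Ideal.Quotient.lift P φ fun a ha => RingHom.mem_ker.mp (hPφ ha)
      obtain ⟨V, hVd, hVeq⟩ := hV k φ' (by rwa [Ideal.Quotient.lift_mk])
      have hφ' : φ'.comp (Ideal.Quotient.mk P) = φ := Ideal.Quotient.lift_comp_mk _ _ _
      rw [Ideal.map_span, ← Set.range_comp] at hVeq
      simp only [Function.comp_def, MvPolynomial.map_map, hφ'] at hVeq
      rw [hVeq]
      exact hD k V hVd)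
  refine ⟨D, fun k _ S hS => ?_⟩
  obtain ⟨c, hc⟩ := exists_tuple (R := MvPolynomial (Fin N) k) (Φ k) S fun p hp =>
    ⟨fun α => coeff (expn α) p, by simpa [Φ] using (eq_sum_box p (hS p hp)).symm⟩
  have h := hD k (point c)
  rw [show (fun i => map (point c) (gen i)) = fun i => Φ k (c i) from funext fun i => by
    simp [gen, Φ, map_sum, map_monomial, point_X]] at h
  rw [Ideal.span, hc]
  exact h

end Groth.Agent.RadBound
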