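import Groth.Agent.RadBound.Elim
import Groth.Agent.FlatMisc.GeomRedSpread
import Mathlib

/-!
# Radicals over a nonempty open of a parameter domain
-/

set_option autoImplicit false

universe u

open MvPolynomial TensorProduct

namespace Groth.Agent.RadBound

variable {N : ℕ}

/-- Ideals of polynomials over a field are contracted from any field extension. -/
theorem comap_map_field {K L : Type u} [Field K] [Field L] (ι : K →+* L)
    (I : Ideal (MvPolynomial (Fin N) K)) : (I.map (map ι)).comap (map ι) = I := by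
  classical
  let _ := ι.toAlgebra
  obtain ⟨π, hπ⟩ := LinearMap.exists_leftInverse_of_injective (Algebra.linearMap K L)
    (LinearMap.ker_eq_bot.mpr ι.injective)
  have hπ' : ∀ a, π (ι a) = a := LinearMap.congr_fun hπ
  let ρ : MvPolynomial (Fin N) L → MvPolynomial (Fin N) K := fun p => ∑ α ∈ p.support, monomial α (π (coeff α p))
  have hρ : ∀ p α, coeff α (ρ p) = π (coeff α p) := fun p α => by
    simp only [ρ, coeff_sum, coeff_monomial]
    rw [Finset.sum_ite_eq']
    split_ifs with h
    · rfl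
    · rw [notMem_support_iff.mp h, map_zero]
  have hmul : ∀ p q, ρ (p * map ι q) = ρ p * q := fun p q => by
    ext α
    rw [hρ, coeff_mul, coeff_mul, map_sum]
    refine Finset.sum_congr rfl fun x _ => ?_
    rw [coeff_map, hρ, mul_comm (π _), mul_comm (coeff x.1 p)]
    exact (π.map_smul (coeff x.2 q) (coeff x.1 p))
  refine le_antisymm (fun x hx => ?_) Ideal.le_comap_map
  have key : ∀ y ∈ I.map (map ι), ρ y ∈ I := by
    intro y hy
    have hadd : ∀ p q, ρ (p + q) = ρ p + ρ q := fun p q => by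
      ext α; simp [hρ]
    have hy' : y ∈ Submodule.span (MvPolynomial (Fin N) L) (map ι '' (I : Set (MvPolynomial (Fin N) K))) := hy
    rw [Finsupp.mem_span_image_iff_linearCombination] at hy'
    obtain ⟨l, hl, rfl⟩ := hy'
    rw [Finsupp.linearCombination_apply, Finsupp.sum]
    have hsum : ∀ T : Finset (MvPolynomial (Fin N) K), ↑T ⊆ (I : Set (MvPolynomial (Fin N) K)) →
        ρ (∑ a ∈ T, l a • map ι a) ∈ I := by
      intro T
      induction T using Finset.induction with
      | empty => intro _; simp [show ρ 0 = 0 by ext α; simp [hρ]]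
      | insert a T ha ih =>
        intro hT
        rw [Finset.coe_insert, Set.insert_subset_iff] at hT
        rw [Finset.sum_insert ha, hadd, smul_eq_mul, hmul]
        exact add_mem (I.mul_mem_left _ hT.1) (ih hT.2)
    exact hsum _ ((Finsupp.mem_supported _ _).mp hl)
  have hx' := key _ hx
  rwa [show ρ (map ι x) = x from by ext α; rw [hρ, coeff_map, hπ']] at hx'

/-- Finitely many elements of an algebraic extension field lie, after scaling, in a finite subalgebra. -/
theorem exists_subalgebra {A Ω : Type u} [CommRing A] [IsDomain A] [Field Ω] [Algebra A Ω]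
    [Algebra.IsAlgebraic A Ω] (C : Finset Ω) :
    ∃ c : A, c ≠ 0 ∧ ∃ A' : Subalgebra A Ω, Module.Finite A A' ∧ ∀ x ∈ C, c • x ∈ A' := by
  classical
  obtain ⟨c, hc, hint⟩ := Algebra.IsAlgebraic.exists_integral_multiples A C
  refine ⟨c, hc, Algebra.adjoin A ((fun x => c • x) '' (C : Set Ω)), ?_, fun x hx => Algebra.subset_adjoin ⟨x, hx, rfl⟩⟩
  exact Module.Finite.iff_fg.mpr (fg_adjoin_of_finite (C.finite_toSet.image _)
    (by rintro _ ⟨x, hx, rfl⟩; exact hint x hx))

/-- A ring map to an algebraically closed field extends along a finite injective extension. -/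
theorem exists_extension {A A' : Type u} [CommRing A] [CommRing A'] [Algebra A A'] [Module.Finite A A']
    (hinj : Function.Injective (algebraMap A A')) {L : Type u} [Field L] [IsAlgClosed L] (φ : A →+* L) :
    ∃ ψ : A' →+* L, ψ.comp (algebraMap A A') = φ := by
  let p := RingHom.ker φ
  have : p.IsPrime := RingHom.ker_isPrime φ
  obtain ⟨Q, -, hQ, hQp⟩ := Ideal.exists_ideal_over_prime_of_isIntegral p (⊥ : Ideal A')
    (fun x hx => by
      have h0 : x = 0 := hinj (by rw [map_zero]; exact (Submodule.mem_bot A').mp hx)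
      rw [h0]; exact zero_mem _)
  have : Q.IsPrime := hQ
  have : Q.LiesOver p := ⟨hQp.symm⟩
  let _ : Algebra p.ResidueField L := (Ideal.ResidueField.lift p φ le_rfl
    (fun a ha => isUnit_iff_ne_zero.mpr fun h => ha (RingHom.mem_ker.mpr h))).toAlgebra
  let i : p.ResidueField →+* Q.ResidueField := Ideal.ResidueField.map p Q (algebraMap A A') hQp.symm
  let _ := i.toAlgebra
  have : IsScalarTower A p.ResidueField Q.ResidueField := .of_algebraMap_eq fun a => by
    exact (IsScalarTower.algebraMap_apply A A' Q.ResidueField a).trans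
      (Ideal.ResidueField.map_algebraMap p Q (algebraMap A A') hQp.symm a).symm
  have : Algebra.IsAlgebraic p.ResidueField Q.ResidueField := by
    refine ⟨fun z => ?_⟩
    obtain ⟨a, b, -, rfl⟩ := IsFractionRing.div_surjective (A := A' ⧸ Q) z
    have hz : ∀ w : A' ⧸ Q, IsIntegral p.ResidueField (algebraMap (A' ⧸ Q) Q.ResidueField w) := fun w => by
      obtain ⟨w, rfl⟩ := Ideal.Quotient.mk_surjective w
      exact ((Algebra.IsIntegral.isIntegral (R := A) w).map (IsScalarTower.toAlgHom A A' Q.ResidueField)).tower_top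
    rw [div_eq_mul_inv]
    exact ((hz a).mul (hz b).inv).isAlgebraic
  let σ : Q.ResidueField →ₐ[p.ResidueField] L := IsAlgClosed.lift
  refine ⟨σ.toRingHom.comp (algebraMap A' Q.ResidueField), RingHom.ext fun a => ?_⟩
  show σ (algebraMap A' Q.ResidueField (algebraMap A A' a)) = φ a
  rw [← IsScalarTower.algebraMap_apply, IsScalarTower.algebraMap_apply A p.ResidueField Q.ResidueField,
    AlgHom.commutes]
  exact Ideal.ResidueField.lift_algebraMap p φ _ _ a

/-- `L ⊗ (A[X]/J) ≅ L[X]/J`. -/
theorem nonempty_tensorQuot_equiv {A L : Type u} [CommRing A] [CommRing L] [Algebra A L]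
    (J : Ideal (MvPolynomial (Fin N) A)) :
    Nonempty ((L ⊗[A] (MvPolynomial (Fin N) A ⧸ J)) ≃ₐ[L]
      (MvPolynomial (Fin N) L ⧸ J.map (map (algebraMap A L)))) := by
  let JL : Ideal (MvPolynomial (Fin N) L) := J.map (map (algebraMap A L))
  let f₀ : (MvPolynomial (Fin N) A) →ₐ[A] (MvPolynomial (Fin N) L) ⧸ JL := ((Ideal.Quotient.mkₐ L JL).restrictScalars A).comp (mapAlgHom (Algebra.ofId A L))
  let f₁ : ((MvPolynomial (Fin N) A) ⧸ J) →ₐ[A] (MvPolynomial (Fin N) L) ⧸ JL := Ideal.Quotient.liftₐ J f₀ fun x hx =>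
    Ideal.Quotient.eq_zero_iff_mem.mpr (Ideal.mem_map_of_mem _ hx)
  let F : L ⊗[A] ((MvPolynomial (Fin N) A) ⧸ J) →ₐ[L] (MvPolynomial (Fin N) L) ⧸ JL :=
    Algebra.TensorProduct.lift (Algebra.ofId L ((MvPolynomial (Fin N) L) ⧸ JL)) f₁ fun _ _ => .all _ _
  let g₀ : (MvPolynomial (Fin N) L) →ₐ[L] L ⊗[A] ((MvPolynomial (Fin N) A) ⧸ J) := aeval fun i => (1 : L) ⊗ₜ[A] Ideal.Quotient.mk J (X i)
  have hg₀ : ∀ p : (MvPolynomial (Fin N) A), g₀ (map (algebraMap A L) p) = (1 : L) ⊗ₜ[A] Ideal.Quotient.mk J p := by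
    intro p
    induction p using MvPolynomial.induction_on with
    | C a =>
      rw [map_C, ← MvPolynomial.algebraMap_eq, AlgHom.commutes,
        show Ideal.Quotient.mk J (C a) = algebraMap A ((MvPolynomial (Fin N) A) ⧸ J) a from rfl,
        Algebra.TensorProduct.algebraMap_apply, Algebra.algebraMap_self, RingHom.id_apply,
        Algebra.algebraMap_eq_smul_one (R := A), Algebra.algebraMap_eq_smul_one (R := A), smul_tmul]
    | add p q hp hq => rw [map_add, map_add, hp, hq, map_add, tmul_add]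
    | mul_X p i hp =>
      rw [map_mul, map_X, map_mul, hp, aeval_X, Algebra.TensorProduct.tmul_mul_tmul, mul_one, map_mul]
  let G : ((MvPolynomial (Fin N) L) ⧸ JL) →ₐ[L] L ⊗[A] ((MvPolynomial (Fin N) A) ⧸ J) := Ideal.Quotient.liftₐ JL g₀ (fun x hx => by
    have : JL ≤ RingHom.ker g₀ := Ideal.map_le_iff_le_comap.mpr fun y hy => by
      show g₀ (map (algebraMap A L) y) = 0
      rw [hg₀, Ideal.Quotient.eq_zero_iff_mem.mpr hy, tmul_zero]
    exact this hx)
  refine ⟨AlgEquiv.ofAlgHom F G ?_ ?_⟩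
  · refine Ideal.Quotient.algHom_ext L (MvPolynomial.algHom_ext fun i => ?_)
    show F (g₀ (X i)) = Ideal.Quotient.mk JL (X i)
    rw [aeval_X]
    show (1 : (MvPolynomial (Fin N) L) ⧸ JL) * Ideal.Quotient.mk JL (map (algebraMap A L) (X i)) = _
    rw [one_mul, map_X]
  · refine Algebra.TensorProduct.ext (AlgHom.ext fun a => ?_) (AlgHom.ext fun y => ?_)
    · show G (F (a ⊗ₜ[A] 1)) = a ⊗ₜ[A] (1 : (MvPolynomial (Fin N) A) ⧸ J)
      rw [show a ⊗ₜ[A] (1 : (MvPolynomial (Fin N) A) ⧸ J) = algebraMap L (L ⊗[A] ((MvPolynomial (Fin N) A) ⧸ J)) a from (Algebra.TensorProduct.algebraMap_apply (S := L) (A := L) a).symm, AlgHom.commutes, AlgHom.commutes]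
    · obtain ⟨p, rfl⟩ := Ideal.Quotient.mk_surjective y
      show G ((1 : (MvPolynomial (Fin N) L) ⧸ JL) * Ideal.Quotient.mk JL (map (algebraMap A L) p)) = _
      rw [one_mul]
      exact hg₀ p

/-- Every polynomial over a spanned algebra decomposes along the spanning family. -/
theorem exists_vec {R S : Type u} [CommRing R] [CommRing S] [Algebra R S] {s : ℕ} (β : Fin s → S)
    (hβ : Submodule.span R (Set.range β) = ⊤) (p : MvPolynomial (Fin N) S) :
    ∃ v : Fin s → MvPolynomial (Fin N) R, p = ∑ l, C (β l) * map (algebraMap R S) (v l) := by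
  induction p using MvPolynomial.induction_on' with
  | monomial α c =>
    obtain ⟨a, rfl⟩ := (Submodule.mem_span_range_iff_exists_fun R).mp (hβ ▸ (Submodule.mem_top : c ∈ ⊤))
    refine ⟨fun l => monomial α (a l), ?_⟩
    simp only [map_monomial, C_mul_monomial]
    rw [map_sum]
    simp [Algebra.smul_def, mul_comm]
  | add p q hp hq =>
    obtain ⟨v, rfl⟩ := hp
    obtain ⟨w, rfl⟩ := hq
    exact ⟨v + w, by simp [mul_add, Finset.sum_add_distrib]⟩

end Groth.Agent.RadBound
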